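import Groth.Agent.FrobLib.Field
import Mathlib.GroupTheory.Index
import Mathlib.SetTheory.Cardinal.Finite

/-!
`T - 1` for Frobenius semilinear maps over separably closed fields: surjective, kernel of order `p ^ d`.
-/

set_option linter.unusedSectionVars false

universe u v

namespace Groth.Agent.FrobLib

/-- `T - 1` as an additive map -/
def subOne {M : Type v} [AddCommGroup M] (T : M →+ M) : M →+ M := T - AddMonoidHom.id M

theorem subOne_apply {M : Type v} [AddCommGroup M] (T : M →+ M) (x : M) : subOne T x = T x - x := rfl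

theorem mem_ker_subOne {M : Type v} [AddCommGroup M] (T : M →+ M) (x : M) :
    x ∈ (subOne T).ker ↔ T x = x := by
  rw [AddMonoidHom.mem_ker, subOne_apply, sub_eq_zero]

variable (p : ℕ) [Fact p.Prime] {k : Type u} [Field k] [CharP k p] [IsSepClosed k]

theorem field_case : ∀ (d : ℕ) (V : Type v) [AddCommGroup V] [Module k V] [FiniteDimensional k V]
    (T : V →ₛₗ[frobenius k p] V), Submodule.span k (Set.range T) = ⊤ → Module.finrank k V = d →
    Function.Surjective (subOne T.toAddMonoidHom) ∧ Nat.card {x // T x = x} = p ^ d := by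
  intro d
  induction d with
  | zero =>
    intro V _ _ _ T _ hd
    have : Subsingleton V := Module.finrank_zero_iff.1 hd
    refine ⟨fun y => ⟨0, Subsingleton.elim _ _⟩, ?_⟩
    rw [pow_zero, Nat.card_eq_one_iff_unique]
    exact ⟨inferInstance, ⟨⟨0, map_zero T⟩⟩⟩
  | succ d ih =>
    intro V _ _ _ T hspan hd
    have : Nontrivial V := Module.nontrivial_of_finrank_eq_succ hd
    obtain ⟨w, hw, hTw⟩ := exists_fixed_ne_zero p T hspan
    let L : Submodule k V := Submodule.span k {w}
    have hTL : ∀ c : k, T (c • w) = c ^ p • w := fun c => by rw [map_smulₛₗ, frobenius_def, hTw]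
    have hle : L ≤ L.comap T := by
      intro x hx
      obtain ⟨c, rfl⟩ := Submodule.mem_span_singleton.1 hx
      exact Submodule.mem_span_singleton.2 ⟨c ^ p, (hTL c).symm⟩
    let Tq : V ⧸ L →ₛₗ[frobenius k p] V ⧸ L := Submodule.mapQ L L T hle
    have hTq : ∀ x, Tq (Submodule.Quotient.mk x) = Submodule.Quotient.mk (T x) := fun x => rfl
    have hspanq : Submodule.span k (Set.range Tq) = ⊤ := by
      have h1 : Set.range Tq = L.mkQ '' Set.range T := by
        ext y
        constructor
        · rintro ⟨x, rfl⟩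
          obtain ⟨x, rfl⟩ := Submodule.Quotient.mk_surjective _ x
          exact ⟨_, ⟨x, rfl⟩, rfl⟩
        · rintro ⟨_, ⟨x, rfl⟩, rfl⟩
          exact ⟨Submodule.Quotient.mk x, rfl⟩
      rw [h1, ← Submodule.map_span, hspan, Submodule.map_top, Submodule.range_mkQ]
    have hdq : Module.finrank k (V ⧸ L) = d := by
      have h := L.finrank_quotient_add_finrank
      rw [finrank_span_singleton hw, hd] at h
      omega
    obtain ⟨hsur, hcard⟩ := ih (V ⧸ L) Tq hspanq hdq
    have hlift : ∀ x : V ⧸ L, ∀ y : V, Tq x - x = Submodule.Quotient.mk y →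
        ∃ z : V, T z - z = y ∧ Submodule.Quotient.mk z = x := by
      intro x y h
      obtain ⟨z, rfl⟩ := Submodule.Quotient.mk_surjective _ x
      rw [hTq, ← Submodule.Quotient.mk_sub, Submodule.Quotient.eq] at h
      obtain ⟨c, hc⟩ := Submodule.mem_span_singleton.1 h
      obtain ⟨a, ha⟩ := exists_artinSchreier p (-c)
      refine ⟨z + a • w, ?_, ?_⟩
      · rw [map_add, hTL, show T z + a ^ p • w - (z + a • w) = (T z - z) + (a ^ p - a) • w by
          rw [sub_smul]; abel, ha, neg_smul, hc]
        abel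
      · rw [Submodule.Quotient.eq, add_sub_cancel_left]
        exact Submodule.mem_span_singleton.2 ⟨a, rfl⟩
    refine ⟨fun y => ?_, ?_⟩
    · obtain ⟨x, hx⟩ := hsur (Submodule.Quotient.mk y)
      obtain ⟨z, hz, -⟩ := hlift x y hx
      exact ⟨z, hz⟩
    let φ : (subOne T.toAddMonoidHom).ker →+ (subOne Tq.toAddMonoidHom).ker :=
      (L.mkQ.toAddMonoidHom.comp (subOne T.toAddMonoidHom).ker.subtype).codRestrict _ fun x => by
        rw [mem_ker_subOne]
        exact congrArg L.mkQ ((mem_ker_subOne _ _).1 x.2)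
    have hφ : Function.Surjective φ := by
      rintro ⟨x, hx⟩
      have hx' := (mem_ker_subOne _ _).1 hx
      obtain ⟨z, hz, hzx⟩ := hlift x 0 (by
        rw [Submodule.Quotient.mk_zero, sub_eq_zero]
        exact hx')
      exact ⟨⟨z, (mem_ker_subOne _ _).2 (sub_eq_zero.1 hz)⟩, Subtype.ext hzx⟩
    have hker : Nat.card φ.ker = p := by
      refine Eq.trans (Nat.card_congr ?_).symm (card_frob_fixed p (k := k))
      refine Equiv.ofBijective (fun a : {a : k // a ^ p = a} =>
        (⟨⟨a.1 • w, (mem_ker_subOne _ _).2 ((hTL a.1).trans (by rw [a.2]))⟩,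
          Subtype.ext ((Submodule.Quotient.mk_eq_zero L).2 (Submodule.mem_span_singleton.2 ⟨a.1, rfl⟩))⟩ : φ.ker))
        ⟨fun a b h => Subtype.ext (smul_left_injective k hw (congrArg (fun t => t.1.1) h)), ?_⟩
      rintro ⟨⟨x, hx⟩, hx0⟩
      obtain ⟨a, rfl⟩ := Submodule.mem_span_singleton.1
        ((Submodule.Quotient.mk_eq_zero L).1 (congrArg Subtype.val hx0))
      refine ⟨⟨a, smul_left_injective k hw ?_⟩, rfl⟩
      exact (hTL a).symm.trans ((mem_ker_subOne _ _).1 hx)
    have e1 : Nat.card {x // T x = x} = Nat.card (subOne T.toAddMonoidHom).ker :=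
      Nat.card_congr (Equiv.subtypeEquivRight fun x => (mem_ker_subOne T.toAddMonoidHom x).symm)
    have e2 : Nat.card {x // Tq x = x} = Nat.card (subOne Tq.toAddMonoidHom).ker :=
      Nat.card_congr (Equiv.subtypeEquivRight fun x => (mem_ker_subOne Tq.toAddMonoidHom x).symm)
    rw [e1, ← AddSubgroup.index_mul_card φ.ker, hker, AddSubgroup.index_ker,
      AddMonoidHom.range_eq_top.2 hφ, AddSubgroup.card_top, ← e2, hcard, pow_succ]

end Groth.Agent.FrobLib
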