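import Mathlib.FieldTheory.IsSepClosed
import Mathlib.FieldTheory.Finite.Basic
import Mathlib.Algebra.CharP.Lemmas
import Mathlib.LinearAlgebra.Dimension.OrzechProperty
import Mathlib.LinearAlgebra.Dimension.Constructions
import Mathlib.LinearAlgebra.FiniteDimensional.Lemmas

/-!
Frobenius semilinear maps over separably closed fields.
-/

set_option linter.unusedSectionVars false

universe u v

open Polynomial

namespace Groth.Agent.FrobLib

variable (p : ℕ) [Fact p.Prime] {k : Type u} [Field k] [CharP k p] [IsSepClosed k]

/-- the polynomial with separable roots giving fixed vectors -/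
theorem exists_ne_zero_root {m : ℕ} (a : Fin (m + 1) → k) (ha : ∃ i, a i ≠ 0) :
    ∃ z : k, z ≠ 0 ∧ ∑ j : Fin (m + 1), a j ^ p ^ (m - j) * z ^ p ^ (m - j + 1) = z := by
  classical
  have hp := Fact.out (p := p.Prime)
  set f : k[X] := (∑ j : Fin (m + 1), C (a j ^ p ^ (m - j)) * X ^ p ^ (m - j + 1)) - X with hf
  have hd : derivative f = -1 := by
    rw [hf, derivative_sub, derivative_X, derivative_sum, Finset.sum_eq_zero, zero_sub]
    intro j _
    rw [derivative_C_mul, derivative_X_pow, Nat.cast_pow, CharP.cast_eq_zero,
      zero_pow (Nat.succ_ne_zero _), map_zero, zero_mul, mul_zero]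
  have hsep : f.Separable := by
    rw [separable_def, hd]
    exact isCoprime_one_right.neg_right
  obtain ⟨i, hi⟩ := ha
  have hdeg : 2 ≤ f.natDegree := by
    refine le_trans ?_ (le_natDegree_of_ne_zero (n := p ^ (m - i + 1)) ?_)
    · exact le_trans hp.two_le (Nat.le_self_pow (Nat.succ_ne_zero _) p)
    · have h1 : 1 ≠ p ^ (m - i + 1) := (Nat.one_lt_pow (Nat.succ_ne_zero _) hp.one_lt).ne
      rw [hf, coeff_sub, coeff_X_of_ne_one h1.symm, sub_zero, finsetSum_coeff, Finset.sum_eq_single i]
      · rw [coeff_C_mul, coeff_X_pow_self, mul_one]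
        exact pow_ne_zero _ hi
      · intro j _ hj
        have hne : p ^ (m - i + 1) ≠ p ^ (m - j + 1) := fun h => hj <| by
          have := Nat.pow_right_injective hp.two_le h
          omega
        rw [coeff_C_mul, coeff_X_pow, if_neg hne, mul_zero]
      · simp
  have hnodup := nodup_roots hsep
  have hcard : f.roots.card = f.natDegree :=
    (splits_iff_card_roots.1 (IsSepClosed.splits_of_separable f hsep))
  obtain ⟨z, hz, hz0⟩ : ∃ z ∈ f.roots, z ≠ 0 := by
    by_contra! h
    have hsub : f.roots.toFinset ⊆ {0} := fun x hx => by simp [h x (Multiset.mem_toFinset.1 hx)]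
    have := Finset.card_le_card hsub
    rw [Multiset.toFinset_card_of_nodup hnodup, hcard, Finset.card_singleton] at this
    omega
  refine ⟨z, hz0, ?_⟩
  have h := (mem_roots'.1 hz).2
  simp only [hf, IsRoot.def, eval_sub, eval_finsetSum, eval_mul, eval_C, eval_pow, eval_X, sub_eq_zero] at h
  exact h

theorem exists_artinSchreier (c : k) : ∃ a : k, a ^ p - a = c := by
  have hp := Fact.out (p := p.Prime)
  obtain ⟨x, hx⟩ := IsSepClosed.exists_root_C_mul_X_pow_add_C_mul_X_add_C' p p (1 : k) (-1) (-c)
    dvd_rfl hp.two_le (by simp)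
  exact ⟨x, by linear_combination hx⟩

theorem card_frob_fixed : Nat.card {a : k // a ^ p = a} = p := by
  rw [Nat.card_congr (Equiv.subtypeEquivRight fun a => (Subfield.mem_bot_iff_pow_eq_self k p (x := a)).symm)]
  exact Subfield.card_bot k p

variable {V : Type v} [AddCommGroup V] [Module k V] [FiniteDimensional k V] (T : V →ₛₗ[frobenius k p] V)

theorem injective_of_span (hspan : Submodule.span k (Set.range T) = ⊤) : Function.Injective T := by
  rw [injective_iff_map_eq_zero]
  intro x hx
  let b := Module.finBasis k V
  have hT : ∀ c : Fin (Module.finrank k V) → k, T (∑ i, c i • b i) = ∑ i, (c i ^ p) • T (b i) := by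
    intro c
    rw [map_sum]
    exact Finset.sum_congr rfl fun i _ => by rw [map_smulₛₗ, frobenius_def]
  have hsp : ⊤ ≤ Submodule.span k (Set.range fun i => T (b i)) := by
    rw [← hspan, Submodule.span_le]
    rintro _ ⟨y, rfl⟩
    rw [← b.sum_repr y, hT]
    exact Submodule.sum_mem _ fun i _ => Submodule.smul_mem _ _ (Submodule.subset_span ⟨i, rfl⟩)
  have hli := linearIndependent_of_top_le_span_of_card_eq_finrank hsp (Fintype.card_fin _)
  rw [← b.sum_repr x, hT] at hx
  have h0 := Fintype.linearIndependent_iff.1 hli _ hx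
  rw [← b.sum_repr x]
  exact Finset.sum_eq_zero fun i _ => by
    rw [pow_eq_zero_iff (Fact.out (p := p.Prime)).ne_zero |>.1 (h0 i), zero_smul]

theorem exists_fixed_ne_zero (hspan : Submodule.span k (Set.range T) = ⊤) [Nontrivial V] :
    ∃ w : V, w ≠ 0 ∧ T w = w := by
  classical
  obtain ⟨v, hv⟩ := exists_ne (0 : V)
  have hinj := injective_of_span p T hspan
  let e : ℕ → V := fun i => T^[i] v
  have he : ∀ i, e (i + 1) = T (e i) := fun i => Function.iterate_succ_apply' T i v
  have he0 : ∀ i, e i ≠ 0 := by
    intro i
    induction i with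
    | zero => exact hv
    | succ i ih => rw [he]; exact fun h => ih (hinj (h.trans (map_zero T).symm))
  have hex : ∃ m, e m ∈ Submodule.span k (Set.range fun i : Fin m => e i) := by
    by_contra! h
    have hli : ∀ m, LinearIndependent k (fun i : Fin m => e i) := by
      intro m
      induction m with
      | zero => exact linearIndependent_empty_type
      | succ m ih =>
        have hs : (fun i : Fin (m + 1) => e i) = Fin.snoc (fun i : Fin m => e i) (e m) := by
          funext i
          refine Fin.lastCases ?_ (fun j => ?_) i <;> simp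
        rw [hs, linearIndependent_finSnoc]
        exact ⟨ih, h m⟩
    have := (hli (Module.finrank k V + 1)).fintype_card_le_finrank
    simp at this
  have hli : ∀ m ≤ Nat.find hex, LinearIndependent k (fun i : Fin m => e i) := by
    intro m hm
    induction m with
    | zero => exact linearIndependent_empty_type
    | succ m ih =>
      have hs : (fun i : Fin (m + 1) => e i) = Fin.snoc (fun i : Fin m => e i) (e m) := by
        funext i
        refine Fin.lastCases ?_ (fun j => ?_) i <;> simp
      rw [hs, linearIndependent_finSnoc]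
      exact ⟨ih (by omega), Nat.find_min hex (by omega)⟩
  have hspec := Nat.find_spec hex
  have hli' := hli _ le_rfl
  generalize Nat.find hex = M at hspec hli'
  rcases M with _ | m
  · simp only [Set.range_eq_empty, Submodule.span_empty, Submodule.mem_bot] at hspec
    exact absurd hspec (he0 0)
  obtain ⟨a, ha⟩ := (Submodule.mem_span_range_iff_exists_fun k).1 hspec
  have hane : ∃ i, a i ≠ 0 := by
    by_contra! h
    exact he0 (m + 1) (by rw [← ha]; simp [h])
  obtain ⟨z, hz0, hz⟩ := exists_ne_zero_root p a hane
  let y : Fin (m + 1) → k := fun i =>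
    ∑ j : Fin (m + 1), if (j : ℕ) ≤ i then a j ^ p ^ ((i : ℕ) - j) * z ^ p ^ ((i : ℕ) - j + 1) else 0
  have hy_last : y (Fin.last m) = z := by
    refine Eq.trans ?_ hz
    refine Finset.sum_congr rfl fun j _ => (if_pos (by simpa using Fin.is_le j)).trans ?_
    simp
  refine ⟨∑ i, y i • e i, fun h0 => hz0 ?_, ?_⟩
  · rw [← hy_last]
    exact Fintype.linearIndependent_iff.1 hli' y h0 (Fin.last m)
  have hpow : ∀ i : Fin m, y i.succ = y i.castSucc ^ p + a i.succ * z ^ p := by
    intro i
    simp only [y, sum_pow_char]
    rw [← Fintype.sum_ite_eq' i.succ (fun j => a j * z ^ p), ← Finset.sum_add_distrib]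
    refine Finset.sum_congr rfl fun j _ => ?_
    simp only [Fin.val_succ, Fin.val_castSucc]
    have hp := Fact.out (p := p.Prime)
    rcases lt_trichotomy (j : ℕ) (i + 1) with h | h | h
    · rw [if_pos h.le, if_pos (by omega), if_neg (fun e => by simp [e] at h), add_zero, mul_pow,
        ← pow_mul, ← pow_mul, ← pow_succ, ← pow_succ,
        show (i : ℕ) + 1 - j = (i : ℕ) - j + 1 by omega]
    · have hj : j = i.succ := Fin.ext (by simpa using h)
      rw [if_pos h.le, if_neg (by omega), if_pos hj, zero_pow hp.ne_zero, zero_add, h]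
      simp
    · rw [if_neg (by omega), if_neg (by omega), if_neg (fun e => by simp [e] at h),
        zero_pow hp.ne_zero, add_zero]
  have hzero : y 0 = a 0 * z ^ p := by
    simp only [y, Fin.val_zero]
    rw [Finset.sum_eq_single 0]
    · simp
    · intro j _ hj
      refine if_neg fun h => hj (Fin.ext ?_)
      simp at h ⊢
      exact h
    · simp
  calc T (∑ i, y i • e i) = ∑ i : Fin (m + 1), y i ^ p • e (i + 1) := by
        rw [map_sum]
        exact Finset.sum_congr rfl fun i _ => by rw [map_smulₛₗ, frobenius_def, he]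
    _ = (∑ i : Fin m, y i.castSucc ^ p • e (i + 1)) + z ^ p • ∑ i, a i • e i := by
        rw [Fin.sum_univ_castSucc, hy_last, ha]
        simp
    _ = ∑ i, y i • e i := by
        rw [Fin.sum_univ_succ (fun i => y i • e i), Fin.sum_univ_succ (fun i => a i • e i), hzero,
          smul_add, smul_smul, Finset.smul_sum, mul_comm (z ^ p) (a 0)]
        simp only [hpow, add_smul, smul_smul, mul_comm (z ^ p), Finset.sum_add_distrib,
          Fin.val_succ]
        abel

end Groth.Agent.FrobLib
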