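import Groth.Agent.FrobLib.Count
import Groth.Agent.Hensel.Local
import Mathlib.RingTheory.Smooth.StandardSmoothCotangent
import Mathlib.RingTheory.Henselian
import Mathlib.RingTheory.LocalRing.ResidueField.Basic
import Mathlib.LinearAlgebra.Matrix.Basis
import Mathlib.RingTheory.Finiteness.Nakayama

/-!
Frobenius semilinear maps on free modules over strictly henselian local rings.
-/

set_option linter.unusedSectionVars false

universe u v

open MvPolynomial

namespace Groth.Agent.FrobLib

section Eqns

variable (p : ℕ) [Fact p.Prime] {R : Type u} [CommRing R] [CharP R p] {n : ℕ}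
  (C' : Matrix (Fin n) (Fin n) R) (c : Fin n → R)

/-- the equations `x_j ^ p = c_j + ∑ C_ji x_i` -/
noncomputable def eqns (j : Fin n) : MvPolynomial (Fin n) R :=
  X j ^ p - (∑ i, C (C' j i) * X i) - C (c j)

theorem pderiv_eqns (i j : Fin n) : pderiv i (eqns p C' c j) = C (-(C' j i)) := by
  classical
  rw [eqns, map_sub, map_sub, map_sum, pderiv_C, sub_zero, pderiv_pow, CharP.cast_eq_zero,
    zero_mul, zero_mul, zero_sub, Finset.sum_eq_single i]
  · rw [pderiv_C_mul, pderiv_X_self, mul_one, map_neg]
  · intro l _ hl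
    rw [pderiv_C_mul, pderiv_X_of_ne hl, mul_zero]
  · simp

theorem etale_eqns (hC : IsUnit C'.det) :
    Algebra.Etale R (MvPolynomial (Fin n) R ⧸ Ideal.span (Set.range (eqns p C' c))) := by
  classical
  let P : Algebra.SubmersivePresentation R (MvPolynomial (Fin n) R ⧸ Ideal.span (Set.range (eqns p C' c)))
      (Fin n) (Fin n) :=
    { __ := Algebra.PreSubmersivePresentation.naive (v := eqns p C' c) id Function.injective_id
      jacobian_isUnit := by
        rw [Algebra.PreSubmersivePresentation.jacobian_eq_jacobiMatrix_det]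
        refine IsUnit.map _ ?_
        rw [show (Algebra.PreSubmersivePresentation.naive (v := eqns p C' c) id Function.injective_id
            (Function.surjInv Ideal.Quotient.mk_surjective) (Function.surjInv_eq _)).jacobiMatrix =
            (-(C'.transpose)).map (C : R → MvPolynomial (Fin n) R) from Matrix.ext fun i j => by
          rw [Algebra.PreSubmersivePresentation.jacobiMatrix_naive, id, pderiv_eqns]
          rfl]
        rw [show (-(C'.transpose)).map (C : R → MvPolynomial (Fin n) R) =
          (C : R →+* MvPolynomial (Fin n) R).mapMatrix (-(C'.transpose)) from rfl, ← RingHom.map_det,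
          Matrix.det_neg, Matrix.det_transpose]
        exact ((isUnit_one.neg.pow _).mul hC).map _ }
  have : Algebra.IsStandardSmoothOfRelativeDimension 0 R
      (MvPolynomial (Fin n) R ⧸ Ideal.span (Set.range (eqns p C' c))) :=
    ⟨Fin n, Fin n, inferInstance, inferInstance, P, by simp [Algebra.Presentation.dimension]⟩
  infer_instance

/-- solutions in an algebra -/
abbrev Sol (S : Type*) [CommRing S] [Algebra R S] :=
  {x : Fin n → S // ∀ j, x j ^ p = (∑ i, algebraMap R S (C' j i) * x i) + algebraMap R S (c j)}

/-- solutions are points of the quotient algebra -/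
noncomputable def solEquiv (S : Type*) [CommRing S] [Algebra R S] :
    (MvPolynomial (Fin n) R ⧸ Ideal.span (Set.range (eqns p C' c)) →ₐ[R] S) ≃ Sol p C' c S where
  toFun f := ⟨fun i => f (Ideal.Quotient.mk _ (X i)), fun j => by
    have h : f (Ideal.Quotient.mk _ (eqns p C' c j)) = 0 := by
      rw [(Ideal.Quotient.eq_zero_iff_mem (I := Ideal.span (Set.range (eqns p C' c)))).2 (Ideal.subset_span ⟨j, rfl⟩), map_zero]
    have h' : (f.comp (Ideal.Quotient.mkₐ R _)) (eqns p C' c j) = 0 := h
    simp only [eqns, map_sub, map_add, map_pow, map_sum, map_mul, ← MvPolynomial.algebraMap_eq,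
      AlgHom.commutes, sub_sub, sub_eq_zero] at h'
    exact h'⟩
  invFun x := Ideal.Quotient.liftₐ _ (aeval x.1) fun a ha => by
    have hle : Ideal.span (Set.range (eqns p C' c)) ≤ RingHom.ker (aeval (R := R) x.1).toRingHom := by
      rw [Ideal.span_le]
      rintro _ ⟨j, rfl⟩
      show aeval x.1 (eqns p C' c j) = 0
      simp only [eqns, map_sub, map_add, map_pow, map_sum, map_mul, aeval_X, aeval_C, sub_sub, sub_eq_zero]
      exact x.2 j
    exact hle ha
  left_inv f := Ideal.Quotient.algHom_ext R (MvPolynomial.algHom_ext fun i => aeval_X _ i)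
  right_inv x := Subtype.ext (funext fun i => aeval_X _ i)

variable [HenselianLocalRing R]

/-- reduction of solutions -/
noncomputable def solRes (x : Sol p C' c R) : Sol p C' c (IsLocalRing.ResidueField R) :=
  ⟨fun i => IsLocalRing.residue R (x.1 i), fun j => by
    rw [← map_pow, x.2 j, map_add, map_sum]
    simp [IsLocalRing.ResidueField.algebraMap_eq]⟩

theorem solRes_bijective (hC : IsUnit C'.det) : Function.Bijective (solRes p C' c) := by
  have := etale_eqns p C' c hC
  constructor
  · intro x y h
    obtain ⟨f, _, huniq⟩ := Groth.Agent.Hensel.existsUnique_algHom_residue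
      (MvPolynomial (Fin n) R ⧸ Ideal.span (Set.range (eqns p C' c)))
      ((solEquiv p C' c (IsLocalRing.ResidueField R)).symm (solRes p C' c y))
    have key : ∀ z, solRes p C' c z = solRes p C' c y →
        (solEquiv p C' c R).symm z = f := fun z hz => huniq _ fun a => by
      have e : (IsScalarTower.toAlgHom R R (IsLocalRing.ResidueField R)).comp
          ((solEquiv p C' c R).symm z) = (solEquiv p C' c (IsLocalRing.ResidueField R)).symm (solRes p C' c y) := by
        rw [← hz]
        refine Ideal.Quotient.algHom_ext R (MvPolynomial.algHom_ext fun i => ?_)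
        show IsLocalRing.residue R (aeval z.1 (X i)) =
          aeval (fun l => IsLocalRing.residue R (z.1 l)) (X i)
        rw [aeval_X, aeval_X]
      exact DFunLike.congr_fun e a
    exact (solEquiv p C' c R).symm.injective ((key x h).trans (key y rfl).symm)
  · intro y
    obtain ⟨f, hf, _⟩ := Groth.Agent.Hensel.existsUnique_algHom_residue
      (MvPolynomial (Fin n) R ⧸ Ideal.span (Set.range (eqns p C' c)))
      ((solEquiv p C' c (IsLocalRing.ResidueField R)).symm y)
    refine ⟨solEquiv p C' c R f, Subtype.ext (funext fun i => ?_)⟩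
    show IsLocalRing.residue R (f _) = _
    rw [hf]
    show aeval y.1 (X i) = _
    rw [aeval_X]

variable [IsSepClosed (IsLocalRing.ResidueField R)]

theorem sol_residue (hC : IsUnit C'.det) :
    Nat.card (Sol p C' c (IsLocalRing.ResidueField R)) = p ^ n := by
  classical
  set κ := IsLocalRing.ResidueField R with hκ
  have : CharP κ p := (CharP.charP_iff_prime_eq_zero (Fact.out (p := p.Prime))).2 (by
    rw [← map_natCast (IsLocalRing.residue R), CharP.cast_eq_zero, map_zero])
  let D : Matrix (Fin n) (Fin n) κ := C'.map (algebraMap R κ)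
  have hD : IsUnit D.det := by
    have := hC.map (algebraMap R κ)
    rwa [RingHom.map_det] at this
  let T : (Fin n → κ) →ₛₗ[frobenius κ p] (Fin n → κ) :=
    { toFun := fun x => D⁻¹.mulVec (fun i => x i ^ p)
      map_add' := fun x y => by
        rw [← Matrix.mulVec_add]
        congr 1
        funext i
        exact add_pow_char (x i) (y i) p
      map_smul' := fun r x => by
        rw [← Matrix.mulVec_smul]
        congr 1
        funext i
        simp [frobenius_def, mul_pow] }
  have hspan : Submodule.span κ (Set.range T) = ⊤ := by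
    rw [eq_top_iff]
    intro y _
    have e : y = ∑ i, (D.mulVec y) i • T (Pi.single i 1) := by
      have hpi : ∀ i : Fin n, (fun l => (Pi.single i (1 : κ) : Fin n → κ) l ^ p) = Pi.single i 1 := fun i => by
        funext l
        rcases eq_or_ne l i with rfl | hl
        · simp
        · simp [hl, zero_pow (Fact.out (p := p.Prime)).ne_zero]
      calc y = D⁻¹.mulVec (D.mulVec y) := by
            rw [Matrix.mulVec_mulVec, Matrix.nonsing_inv_mul D hD, Matrix.one_mulVec]
        _ = D⁻¹.mulVec (∑ i, (D.mulVec y) i • (Pi.single i (1 : κ) : Fin n → κ)) := by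
            rw [← pi_eq_sum_univ']
        _ = _ := by
            rw [Matrix.mulVec_sum]
            refine Finset.sum_congr rfl fun i _ => ?_
            rw [Matrix.mulVec_smul]
            show _ = _ • D⁻¹.mulVec _
            rw [hpi]
    rw [e]
    exact Submodule.sum_mem _ fun i _ => Submodule.smul_mem _ _ (Submodule.subset_span ⟨_, rfl⟩)
  obtain ⟨hsur, hcard⟩ := field_case p n (Fin n → κ) T hspan (Module.finrank_fin_fun κ)
  obtain ⟨x₀, hx₀⟩ := hsur (D⁻¹.mulVec fun j => algebraMap R κ (c j))
  have hsol : ∀ x : Fin n → κ,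
      (∀ j, x j ^ p = (∑ i, algebraMap R κ (C' j i) * x i) + algebraMap R κ (c j)) ↔
        T x - x = D⁻¹.mulVec fun j => algebraMap R κ (c j) := by
    intro x
    have hinj : Function.Injective D.mulVec := Matrix.mulVec_injective_of_isUnit ((Matrix.isUnit_iff_isUnit_det D).2 hD)
    rw [← hinj.eq_iff, Matrix.mulVec_sub, Matrix.mulVec_mulVec, Matrix.mul_nonsing_inv D hD,
      Matrix.one_mulVec, sub_eq_iff_eq_add,
      show D.mulVec (T x) = fun i => x i ^ p by
        show D.mulVec (D⁻¹.mulVec _) = _
        rw [Matrix.mulVec_mulVec, Matrix.mul_nonsing_inv D hD, Matrix.one_mulVec],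
      funext_iff]
    refine forall_congr' fun j => ?_
    rw [Pi.add_apply, add_comm]
    rfl
  rw [← hcard]
  refine Nat.card_congr ((Equiv.subtypeEquivRight hsol).trans
    ((Equiv.subRight x₀).subtypeEquiv fun x => ?_))
  show T x - x = _ ↔ T (x - x₀) = x - x₀
  rw [map_sub, ← show T x₀ - x₀ = (D⁻¹.mulVec fun j => algebraMap R κ (c j)) from hx₀,
    sub_eq_sub_iff_sub_eq_sub]

theorem sol_card (hC : IsUnit C'.det) : Nat.card (Sol p C' c R) = p ^ n :=
  (Nat.card_congr (Equiv.ofBijective _ (solRes_bijective p C' c hC))).trans (sol_residue p C' c hC)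

end Eqns

section Free

variable (p : ℕ) [Fact p.Prime] {R : Type u} [CommRing R] [CharP R p] [HenselianLocalRing R]
  [IsSepClosed (IsLocalRing.ResidueField R)] {M : Type v} [AddCommGroup M] [Module R M]

theorem free_system [Module.Free R M] [Module.Finite R M] (T : M →+ M)
    (hT : ∀ (r : R) (m : M), T (r • m) = r ^ p • T m) (hspan : Submodule.span R (Set.range T) = ⊤)
    {d : ℕ} (e : Module.Basis (Fin d) R M) (b : M) :
    ∃ (f : Module.Basis (Fin d) R M) (C' : Matrix (Fin d) (Fin d) R), IsUnit C'.det ∧
      ∀ (m : M) (j : Fin d), f.repr (T m - m - b) j =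
        (e.repr m j) ^ p - ((∑ i, C' j i * e.repr m i) + f.repr b j) := by
  classical
  have hTsum : ∀ x : Fin d → R, T (∑ i, x i • e i) = ∑ i, (x i ^ p) • T (e i) := by
    intro x
    simp only [map_sum, hT]
  have hsp : ⊤ ≤ Submodule.span R (Set.range fun i => T (e i)) := by
    rw [← hspan, Submodule.span_le]
    rintro _ ⟨y, rfl⟩
    rw [← e.sum_repr y, hTsum]
    exact Submodule.sum_mem _ fun i _ => Submodule.smul_mem _ _ (Submodule.subset_span ⟨i, rfl⟩)
  let f := basisOfTopLeSpanOfCardEqFinrank (fun i => T (e i)) hsp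
    ((Fintype.card_fin _).trans (by rw [Module.finrank_eq_card_basis e, Fintype.card_fin]))
  have hf : ∀ i, f i = T (e i) := fun i => by rw [show (⇑f) = _ from coe_basisOfTopLeSpanOfCardEqFinrank _ _ _]
  let C' : Matrix (Fin d) (Fin d) R := f.toMatrix e
  have hC : IsUnit C'.det := by
    rw [← Matrix.isUnit_iff_isUnit_det]
    exact ⟨⟨C', e.toMatrix f, f.toMatrix_mul_toMatrix_flip e, e.toMatrix_mul_toMatrix_flip f⟩, rfl⟩
  refine ⟨f, C', hC, fun m j => ?_⟩
  conv_lhs => rw [← e.sum_repr m, hTsum]
  simp only [← hf, map_sub, map_sum, map_smul, Module.Basis.repr_self, Finsupp.sub_apply,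
    Finsupp.finsetSum_apply, Finsupp.smul_apply, smul_eq_mul, Finsupp.single_apply, mul_ite, mul_one,
    mul_zero, Finset.sum_ite_eq', Finset.mem_univ, if_true]
  simp only [C', Module.Basis.toMatrix_apply, mul_comm, sub_sub]

theorem free_fibre [Module.Free R M] [Module.Finite R M] (T : M →+ M)
    (hT : ∀ (r : R) (m : M), T (r • m) = r ^ p • T m) (hspan : Submodule.span R (Set.range T) = ⊤)
    (b : M) : Nat.card {m : M // T m - m = b} = p ^ Module.finrank R M := by
  obtain ⟨f, C', hC, hsys⟩ := free_system p T hT hspan (Module.finBasis R M) b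
  rw [← sol_card p C' (fun j => f.repr b j) hC]
  refine Nat.card_congr (((Module.finBasis R M).equivFun.toEquiv).subtypeEquiv fun m => ?_)
  rw [← sub_eq_zero, ← f.repr.map_eq_zero_iff, Finsupp.ext_iff]
  refine forall_congr' fun j => ?_
  rw [hsys, Finsupp.zero_apply, sub_eq_zero]
  rfl

/-- approximate solutions over the residue field lift -/
theorem free_lift [Module.Free R M] [Module.Finite R M] (T : M →+ M)
    (hT : ∀ (r : R) (m : M), T (r • m) = r ^ p • T m) (hspan : Submodule.span R (Set.range T) = ⊤)
    {d : ℕ} (e : Module.Basis (Fin d) R M) (x : M)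
    (hx : T x - x ∈ IsLocalRing.maximalIdeal R • (⊤ : Submodule R M)) :
    ∃ z : M, T z = z ∧ ∀ i, e.repr (z - x) i ∈ IsLocalRing.maximalIdeal R := by
  obtain ⟨f, C', hC, hsys⟩ := free_system p T hT hspan e 0
  have hmem : ∀ j, f.repr (T x - x - 0) j ∈ IsLocalRing.maximalIdeal R := by
    intro j
    rw [sub_zero]
    refine Submodule.smul_induction_on hx (fun r hr y _ => ?_) (fun y y' hy hy' => ?_)
    · rw [map_smul, Finsupp.smul_apply, smul_eq_mul]
      exact Ideal.mul_mem_right _ _ hr
    · rw [map_add, Finsupp.add_apply]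
      exact add_mem hy hy'
  let y : Sol p C' (fun j => f.repr (0 : M) j) (IsLocalRing.ResidueField R) :=
    ⟨fun i => IsLocalRing.residue R (e.repr x i), fun j => by
      have h := (IsLocalRing.residue_eq_zero_iff _).2 (hsys x j ▸ hmem j)
      rw [map_sub, map_pow, sub_eq_zero, map_add, map_sum] at h
      simpa [IsLocalRing.ResidueField.algebraMap_eq] using h⟩
  obtain ⟨z, hz⟩ := (solRes_bijective p C' (fun j => f.repr (0 : M) j) hC).2 y
  have hrep : ∀ i, e.repr (e.equivFun.symm z.1) i = z.1 i := fun i =>
    congrFun (e.equivFun.apply_symm_apply z.1) i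
  refine ⟨e.equivFun.symm z.1, ?_, fun i => ?_⟩
  · have h0 : T (e.equivFun.symm z.1) - e.equivFun.symm z.1 - 0 = 0 := f.repr.map_eq_zero_iff.1 <|
      Finsupp.ext fun j => by
        rw [hsys, Finsupp.zero_apply, sub_eq_zero]
        simp only [hrep]
        exact z.2 j
    rwa [sub_zero, sub_eq_zero] at h0
  · rw [← IsLocalRing.residue_eq_zero_iff, map_sub, Finsupp.sub_apply, map_sub, hrep, sub_eq_zero]
    exact congrFun (congrArg Subtype.val hz) i

theorem free_case [Module.Free R M] [Module.Finite R M] (T : M →+ M)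
    (hT : ∀ (r : R) (m : M), T (r • m) = r ^ p • T m) (hspan : Submodule.span R (Set.range T) = ⊤) :
    Function.Surjective (fun m => T m - m) ∧
      Nat.card {m : M // T m = m} = p ^ Module.finrank R M := by
  refine ⟨fun b => ?_, ?_⟩
  · have h := free_fibre p T hT hspan b
    have : Nonempty {m : M // T m - m = b} := by
      by_contra hne
      rw [not_nonempty_iff] at hne
      rw [Nat.card_of_isEmpty] at h
      exact (pow_ne_zero _ (Fact.out (p := p.Prime)).ne_zero) h.symm
    obtain ⟨⟨m, hm⟩⟩ := this
    exact ⟨m, hm⟩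
  · rw [← free_fibre p T hT hspan 0]
    exact Nat.card_congr (Equiv.subtypeEquivRight fun m => sub_eq_zero.symm)

end Free

end Groth.Agent.FrobLib
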