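import Groth.Agent.FrobLib.Hens
import Mathlib.RingTheory.Filtration
import Mathlib.RingTheory.LocalRing.Module

/-!
Frobenius semilinear maps on finite modules over noetherian strictly henselian local rings.
-/

set_option linter.unusedSectionVars false

universe u v

open TensorProduct

namespace Groth.Agent.FrobLib

variable (p : ℕ) [Fact p.Prime] {R : Type u} [CommRing R] [CharP R p] [HenselianLocalRing R]
  [IsNoetherianRing R]
  {M : Type v} [AddCommGroup M] [Module R M] [Module.Finite R M] (T : M →+ M)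
  (hT : ∀ (r : R) (m : M), T (r • m) = r ^ p • T m)

local notation "𝔪" => IsLocalRing.maximalIdeal R

include hT in
theorem map_smul_top_le (I : Ideal R) {x : M} (hx : x ∈ I • (⊤ : Submodule R M)) :
    T x ∈ I ^ p • (⊤ : Submodule R M) := by
  refine Submodule.smul_induction_on hx (fun r hr y _ => ?_) (fun y y' hy hy' => ?_)
  · rw [hT]
    exact Submodule.smul_mem_smul (Ideal.pow_mem_pow hr p) Submodule.mem_top
  · rw [map_add]
    exact add_mem hy hy'

include hT in
theorem eq_zero_of_fixed {x : M} (hTx : T x = x) (hx : x ∈ 𝔪 • (⊤ : Submodule R M)) : x = 0 := by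
  have hp := (Fact.out (p := p.Prime)).two_le
  have h : ∀ j : ℕ, 1 ≤ j → x ∈ 𝔪 ^ j • (⊤ : Submodule R M) := by
    intro j hj
    induction j, hj using Nat.le_induction with
    | base => rwa [pow_one]
    | succ j hj ih =>
      have := map_smul_top_le p T hT (𝔪 ^ j) ih
      rw [hTx, ← pow_mul] at this
      exact Submodule.smul_mono_left (Ideal.pow_le_pow_right (by nlinarith)) this
  have hmem : x ∈ ⨅ j : ℕ, 𝔪 ^ j • (⊤ : Submodule R M) := by
    rw [Submodule.mem_iInf]
    intro j
    rcases Nat.eq_zero_or_pos j with rfl | hj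
    · simp
    · exact h j hj
  rwa [Ideal.iInf_pow_smul_eq_bot_of_isLocalRing _ (IsLocalRing.maximalIdeal.isMaximal R).ne_top,
    Submodule.mem_bot] at hmem

variable [IsSepClosed (IsLocalRing.ResidueField R)]

include hT in
theorem noeth_case (hspan : Submodule.span R (Set.range T) = ⊤) :
    Function.Surjective (fun m => T m - m) ∧
      Nat.card {m : M // T m = m} =
        p ^ Module.finrank (IsLocalRing.ResidueField R) (IsLocalRing.ResidueField R ⊗[R] M) := by
  classical
  set κ := IsLocalRing.ResidueField R with hκ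
  let bk := Module.finBasis κ (κ ⊗[R] M)
  choose f hf using fun i => TensorProduct.mk_surjective R M κ Ideal.Quotient.mk_surjective (bk i)
  let π : (Fin (Module.finrank κ (κ ⊗[R] M)) → R) →ₗ[R] M := Fintype.linearCombination R f
  have hπ : Function.Surjective π := by
    rw [← LinearMap.range_eq_top, Fintype.range_linearCombination]
    exact IsLocalRing.span_eq_top_of_tmul_eq_basis f bk hf
  have hker : ∀ x, π x = 0 → ∀ i, x i ∈ 𝔪 := by
    intro x hx i
    have h0 : ∑ l, IsLocalRing.residue R (x l) • bk l = 0 := by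
      rw [← (TensorProduct.mk R κ M 1).map_zero, ← hx, Fintype.linearCombination_apply, map_sum]
      refine Finset.sum_congr rfl fun l _ => ?_
      rw [map_smul, ← hf l, ← IsLocalRing.ResidueField.algebraMap_eq, algebraMap_smul]
    exact (IsLocalRing.residue_eq_zero_iff _).1
      (Fintype.linearIndependent_iff.1 bk.linearIndependent _ h0 i)
  have hmemtop : ∀ x : Fin (Module.finrank κ (κ ⊗[R] M)) → R, (∀ i, x i ∈ 𝔪) →
      x ∈ 𝔪 • (⊤ : Submodule R (Fin (Module.finrank κ (κ ⊗[R] M)) → R)) := by
    intro x hx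
    rw [pi_eq_sum_univ' x]
    exact Submodule.sum_mem _ fun i _ => Submodule.smul_mem_smul (hx i) Submodule.mem_top
  choose g hg using fun i => hπ (T (f i))
  have : CharP R p := inferInstance
  let T' : (Fin (Module.finrank κ (κ ⊗[R] M)) → R) →+ (Fin (Module.finrank κ (κ ⊗[R] M)) → R) :=
    AddMonoidHom.mk' (fun x => ∑ i, (x i ^ p) • g i) fun x y => by
      rw [← Finset.sum_add_distrib]
      refine Finset.sum_congr rfl fun i _ => ?_
      rw [Pi.add_apply, add_pow_char, add_smul]
  have hT' : ∀ (r : R) x, T' (r • x) = r ^ p • T' x := by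
    intro r x
    simp only [T', AddMonoidHom.mk'_apply, Pi.smul_apply, smul_eq_mul, mul_pow, Finset.smul_sum,
      smul_smul]
  have hπT : ∀ x, π (T' x) = T (π x) := by
    intro x
    simp only [T', AddMonoidHom.mk'_apply, map_sum, map_smul, hg]
    rw [Fintype.linearCombination_apply, map_sum]
    simp only [hT]
  have hspan' : Submodule.span R (Set.range T') = ⊤ := by
    refine top_le_iff.1 (Submodule.le_of_le_smul_of_le_jacobson_bot Module.Finite.fg_top
      (IsLocalRing.maximalIdeal_le_jacobson ⊥) fun y _ => ?_)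
    have h1 : π y ∈ Submodule.map π (Submodule.span R (Set.range T')) := by
      have hsub : Submodule.span R (Set.range T) ≤ Submodule.map π (Submodule.span R (Set.range T')) := by
        rw [Submodule.span_le]
        rintro _ ⟨m, rfl⟩
        obtain ⟨x, rfl⟩ := hπ m
        exact ⟨T' x, Submodule.subset_span ⟨x, rfl⟩, hπT x⟩
      exact hsub (hspan ▸ Submodule.mem_top)
    obtain ⟨z, hz, hzy⟩ := h1
    refine Submodule.mem_sup.2 ⟨z, hz, y - z, ?_, add_sub_cancel _ _⟩
    exact hmemtop _ (hker _ (by rw [map_sub, hzy, sub_self]))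
  obtain ⟨hsur, hcard⟩ := free_case p T' hT' hspan'
  refine ⟨fun b => ?_, ?_⟩
  · obtain ⟨y, rfl⟩ := hπ b
    obtain ⟨x, hx⟩ := hsur y
    exact ⟨π x, by simp only [← hx, map_sub, hπT]⟩
  rw [Module.finrank_fin_fun] at hcard
  rw [← hcard]
  refine (Nat.card_congr (Equiv.ofBijective
    (fun x : {x // T' x = x} => (⟨π x.1, by rw [← hπT, x.2]⟩ : {m : M // T m = m})) ⟨?_, ?_⟩)).symm
  · intro x y h
    refine Subtype.ext (sub_eq_zero.1 (eq_zero_of_fixed p T' hT' (by rw [map_sub, x.2, y.2]) (hmemtop _ (hker _ ?_))))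
    rw [map_sub, show π x.1 = π y.1 from congrArg Subtype.val h, sub_self]
  · rintro ⟨m, hm⟩
    obtain ⟨x, rfl⟩ := hπ m
    obtain ⟨z, hz, hzx⟩ := free_lift p T' hT' hspan' (Pi.basisFun R _) x
      (hmemtop _ (hker _ (by rw [map_sub, hπT, hm, sub_self])))
    refine ⟨⟨z, hz⟩, Subtype.ext (sub_eq_zero.1 (eq_zero_of_fixed p T hT
      (by rw [map_sub, ← hπT, hz, hm]) ?_))⟩
    show π z - π x ∈ _
    rw [← map_sub]
    have h := Submodule.mem_map_of_mem (f := π) (hmemtop (z - x) fun i => by simpa using hzx i)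
    rw [Submodule.map_smul''] at h
    exact Submodule.smul_mono le_rfl le_top h

end Groth.Agent.FrobLib
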